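import Cfsg.Agent.OddSixteen.Chain
import Cfsg.Agent.S1416
import Cfsg.Agent.S1417
import Cfsg.Agent.S1418
import Cfsg.Agent.S1421
import Cfsg.Agent.S1427
import Cfsg.Agent.S1428
import Cfsg.Agent.S1429
import Cfsg.Agent.S1430

/-!
The inputs of the pairing statements, proved.
-/

set_option autoImplicit false

namespace CfsgLib.OddPairs

universe u

theorem deps : Deps.{u} :=
  OddSixteen.LocalLeaves.deps ⟨@Cfsg.Agent.S1416.result, @Cfsg.Agent.S1417.result,
    @Cfsg.Agent.S1418.result, @Cfsg.Agent.S1421.result, @Cfsg.Agent.S1427.result,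
    @Cfsg.Agent.S1428.result, @Cfsg.Agent.S1429.result, @Cfsg.Agent.S1430.result⟩

end CfsgLib.OddPairs
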